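import Groth.Agent.H17.PrimaryDecomp
import Groth.Agent.H10Coh.Support
import Groth.Agent.H10Coh.QcqsPush
import Groth.Agent.LeadDev.Basic

/-!
# A coherent submodule without sections supported off an open

For a coherent module `G` on a locally Noetherian scheme and an open `U`, the intersection of the
primary components at the associated points outside `U` agrees with `G` on `U` and has no nonzero
section vanishing on `U`.
-/

set_option autoImplicit false
set_option linter.style.haveILetI false
set_option linter.unusedSectionVars false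

universe u

open CategoryTheory CategoryTheory.Limits AlgebraicGeometry Opposite TopologicalSpace

namespace Groth.Agent.LeadHom

variable {X : Scheme.{u}}

/-- A quasi-coherent module with one associated point has no section over an open missing it. -/
theorem eq_zero_of_ass_singleton {G : X.Modules} (hG : Coh.IsQCoh G) {x : X} (hA : AssSch.Ass G = {x})
    {W : X.Opens} (hx : x ∉ W) (s : Γ(G, W)) : s = 0 := by
  refine TopCat.Presheaf.section_ext (⟨G.presheaf, G.isSheaf⟩ : TopCat.Sheaf Ab.{u} X) W _ _ fun y hy => ?_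
  show G.presheaf.germ W y hy s = G.presheaf.germ W y hy 0
  rw [map_zero]
  by_contra hne
  obtain ⟨V, hV, hyV, hle⟩ := exists_isAffineOpen_mem_and_subset (U := W) hy
  have hle' : V ≤ W := hle
  obtain ⟨z, hzV, hz, -, -⟩ := H17.AssPts.exists_ass_specializes_of_germ G hG hV hyV
    (s := G.presheaf.map (homOfLE hle').op s) (by rw [TopCat.Presheaf.germ_res_apply]; exact hne)
  rw [hA, Set.mem_singleton_iff] at hz
  subst hz
  exact hx (hle' hzV)

variable [IsLocallyNoetherian X]

/-- The submodule without sections supported off `U`. -/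
theorem exists_torsionFree_sub (G : X.Modules) (hG : Coh.IsCoh G) (U : X.Opens) :
    ∃ (G' : X.Modules) (i : G' ⟶ G), Mono i ∧ Coh.IsCoh G' ∧
      IsIso ((Scheme.Modules.restrictFunctor U.ι).map i) ∧
      ∀ (W : X.Opens) (s : Γ(G', W)), G'.presheaf.map (homOfLE (inf_le_left : W ⊓ U ≤ W)).op s = 0 → s = 0 := by
  classical
  obtain ⟨Q, q, -, hQ, hA, hz, -⟩ := H17.PrimaryDecomp.exists_decomposition G hG
  let J : Type u := {x : AssSch.Ass G // x.1 ∉ U}
  haveI : HasProduct fun x : J => Q x.1 := inferInstance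
  let Φ : G ⟶ ∏ᶜ fun x : J => Q x.1 := Pi.lift fun x => q x.1
  have hmem : ∀ (W : X.Opens) (t : Γ(G, W)),
      (∀ x : J, (q x.1).app W t = 0) → ∃ y, (kernel.ι Φ).app W y = t := by
    intro W t ht
    haveI : Epi (Abelian.coimage.π Φ) := inferInstance
    have hS : (ShortComplex.mk (kernel.ι Φ) (Abelian.coimage.π Φ) (cokernel.condition _)).ShortExact :=
      { exact := ShortComplex.exact_cokernel _
        mono_f := inferInstanceAs (Mono (kernel.ι Φ))
        epi_g := inferInstanceAs (Epi (Abelian.coimage.π Φ)) }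
    refine H10Coh.exists_app_eq_of_exact hS W t ?_
    refine H10Coh.injective_app_of_mono' (Abelian.factorThruCoimage Φ) W (Eq.trans ?_ (map_zero _).symm)
    rw [← ConcreteCategory.comp_apply, ← Scheme.Modules.Hom.comp_app, Abelian.coimage.fac]
    refine H17.Primary.eq_zero_of_jointly_mono (fun x : J => Pi.π (fun x : J => Q x.1) x)
      (fun T a b h => Pi.hom_ext _ _ h) W _ fun x => ?_
    rw [← ConcreteCategory.comp_apply, ← Scheme.Modules.Hom.comp_app, Pi.lift_π]
    exact ht x
  have hker : ∀ (W : X.Opens) (y : Γ(kernel Φ, W)) (x : J), (q x.1).app W ((kernel.ι Φ).app W y) = 0 := by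
    intro W y x
    have h : kernel.ι Φ ≫ q x.1 = 0 := by
      rw [show q x.1 = Φ ≫ Pi.π _ x from (Pi.lift_π (fun x : J => q x.1) x).symm, kernel.condition_assoc, zero_comp]
    exact congr($(congr(Scheme.Modules.Hom.app $h W)) y)
  have hinj := fun W => H10Coh.injective_app_of_mono' (kernel.ι Φ) W
  have hnat : ∀ {A B : X.Modules} (f : A ⟶ B) {V W : X.Opens} (h : V ≤ W) (s : Γ(A, W)),
      f.app V (A.presheaf.map (homOfLE h).op s) = B.presheaf.map (homOfLE h).op (f.app W s) :=
    fun {A B} f {V W} h s => congr($((Scheme.Modules.Hom.mapPresheaf f).naturality (homOfLE h).op) s)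
  have hqc : Coh.IsQCoh (kernel Φ) := by
    refine H10Coh.isQuasicoherent_of_localizing _ (fun W hW t s hs => ?_) fun W hW t s' => ?_
    · obtain ⟨n, hn⟩ := H29Blow.exists_pow_smul_eq_zero G hG.1 hW t ((kernel.ι Φ).app W s)
        ((hnat (kernel.ι Φ) (X.basicOpen_le t) s).symm.trans
          ((congrArg ((kernel.ι Φ).app (X.basicOpen t)) hs).trans (map_zero _)))
      exact ⟨n, hinj W (by rw [Scheme.Modules.Hom.app_smul, hn, map_zero])⟩
    · obtain ⟨n, s, hs⟩ := H29Blow.exists_pow_smul_eq_res G hG.1 hW t ((kernel.ι Φ).app (X.basicOpen t) s')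
      let S := (H17.Primary.finite_ass_affine hG hW).toFinset
      have hk : ∀ x : J, ∃ m : ℕ, t ^ m • (q x.1).app W s = 0 := fun x => by
        refine H29Blow.exists_pow_smul_eq_zero (Q x.1) (hQ x.1).1 hW t _ ?_
        rw [← hnat (q x.1) (X.basicOpen_le t) s, hs, Scheme.Modules.Hom.app_smul, hker, smul_zero]
      choose m hm using hk
      let k : X → ℕ := fun z => if h : z ∈ AssSch.Ass G ∧ z ∉ U then m ⟨⟨z, h.1⟩, h.2⟩ else 0
      let M := S.sup k
      obtain ⟨y, hy⟩ := hmem W (t ^ M • s) fun x => by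
        by_cases hxW : x.1.1 ∈ W
        · have hle : m x ≤ M := by
            have h1 := Finset.le_sup (f := k) ((H17.Primary.finite_ass_affine hG hW).mem_toFinset.2 ⟨x.1.2, hxW⟩)
            rwa [show k x.1.1 = m x from dif_pos ⟨x.1.2, x.2⟩] at h1
          rw [Scheme.Modules.Hom.app_smul, ← Nat.sub_add_cancel hle, pow_add, mul_smul, hm, smul_zero]
        · exact eq_zero_of_ass_singleton (hQ x.1).1 (hA x.1) hxW _
      refine ⟨M + n, y, hinj _ ?_⟩
      rw [Scheme.Modules.Hom.app_smul]
      show (kernel.ι Φ).app (X.basicOpen t) ((kernel Φ).presheaf.map _ y) = _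
      rw [hnat (kernel.ι Φ) (X.basicOpen_le t) y, hy, Scheme.Modules.map_smul, pow_add, map_mul, mul_smul, hs]
  refine ⟨kernel Φ, kernel.ι Φ, inferInstance, H10Coh.isCoh_of_mono (kernel.ι Φ) hqc hG, ?_, fun W s hs => ?_⟩
  · refine Scheme.Modules.Hom.isIso_iff_isIso_app.2 fun W => ?_
    rw [ConcreteCategory.isIso_iff_bijective]
    refine ⟨hinj _, fun t => hmem _ t fun x => eq_zero_of_ass_singleton (hQ x.1).1 (hA x.1) ?_ _⟩
    exact fun h => x.2 (U.ι.image_le_opensRange W |>.trans U.opensRange_ι.le h)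
  · refine hinj W (Eq.trans ?_ (map_zero _).symm)
    refine hz W _ fun x => ?_
    by_cases hxU : x.1 ∈ U
    · refine TopCat.Presheaf.section_ext (⟨(Q x).presheaf, (Q x).isSheaf⟩ : TopCat.Sheaf Ab.{u} X) W _ _ fun y hy => ?_
      show (Q x).presheaf.germ W y hy _ = (Q x).presheaf.germ W y hy 0
      rw [map_zero]
      by_contra hne
      obtain ⟨V, hV, hyV, hle⟩ := exists_isAffineOpen_mem_and_subset (U := W) hy
      have hle' : V ≤ W := hle
      obtain ⟨z, hzV, hzA, -, hz0⟩ := H17.AssPts.exists_ass_specializes_of_germ (Q x) (hQ x).1 hV hyV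
        (s := (Q x).presheaf.map (homOfLE hle').op ((q x).app W ((kernel.ι Φ).app W s)))
        (by rw [TopCat.Presheaf.germ_res_apply]; exact hne)
      rw [hA x, Set.mem_singleton_iff] at hzA
      subst hzA
      rw [TopCat.Presheaf.germ_res_apply] at hz0
      refine hz0 ?_
      rw [← TopCat.Presheaf.germ_res_apply (Q x).presheaf (homOfLE (inf_le_left : W ⊓ U ≤ W)) x.1 ⟨hle' hzV, hxU⟩,
        ← hnat, ← hnat, hs, map_zero, map_zero, map_zero]
    · exact hker W s ⟨x, hxU⟩

set_option maxHeartbeats 1000000 in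
/-- A map on an open extends after shrinking the source to a submodule that agrees with it there. -/
theorem exists_extension_hom (F G : X.Modules) (hF : Coh.IsCoh F) (hG : Coh.IsCoh G) (U : X.Opens)
    (φ : (Scheme.Modules.restrictFunctor U.ι).obj F ⟶ (Scheme.Modules.restrictFunctor U.ι).obj G) :
    ∃ (F' : X.Modules) (ι : F' ⟶ F) (φ' : F' ⟶ G), Mono ι ∧ Coh.IsCoh F' ∧
      IsIso ((Scheme.Modules.restrictFunctor U.ι).map ι) ∧
      (Scheme.Modules.restrictFunctor U.ι).map φ' = (Scheme.Modules.restrictFunctor U.ι).map ι ≫ φ := by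
  obtain ⟨G', i, hi, hG', hiso, htf⟩ := exists_torsionFree_sub G hG U
  let R := Scheme.Modules.restrictFunctor U.ι
  let P := Scheme.Modules.pushforward U.ι
  let adj := Scheme.Modules.restrictAdjunction U.ι
  haveI : ((P.obj (R.obj G))).IsQuasicoherent := by
    haveI : (R.obj G).IsQuasicoherent := LeadDev.isQCoh_restrict U.ι G hG.1
    exact H10Coh.isQuasicoherent_pushforward U.ι _
  let u : G' ⟶ P.obj (R.obj G) := i ≫ adj.unit.app G
  haveI : Mono u := by
    refine Preadditive.mono_of_cancel_zero _ fun {T} g hg => Scheme.Modules.hom_ext _ _ fun W => ?_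
    ext s
    refine htf W _ ?_
    have h : adj.unit.app G' ≫ P.map (R.map i) = u := (adj.unit.naturality i).symm
    haveI : IsIso (P.map (R.map i)) := inferInstance
    have h1 : (adj.unit.app G').app W (g.app W s) = 0 := by
      have h2 : g ≫ adj.unit.app G' = 0 := by
        rw [← cancel_mono (P.map (R.map i)), Category.assoc, h, hg, zero_comp]
      exact congr($(congr(Scheme.Modules.Hom.app $h2 W)) s)
    have hle : U.ι ''ᵁ (U.ι ⁻¹ᵁ W) ≤ W := by
      rw [Scheme.Hom.image_preimage_eq_opensRange_inf]; exact inf_le_right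
    have hle' : W ⊓ U ≤ U.ι ''ᵁ (U.ι ⁻¹ᵁ W) := by
      rw [Scheme.Hom.image_preimage_eq_opensRange_inf, Scheme.Opens.opensRange_ι, inf_comm]
    have h2 : H10Coh.rs G' hle (g.app W s) = 0 := h1
    show H10Coh.rs G' (inf_le_left : W ⊓ U ≤ W) (g.app W s) = 0
    rw [← H10Coh.rs_rs G' hle hle', h2, map_zero]
  let d : F ⟶ P.obj (R.obj G) := adj.unit.app F ≫ P.map φ
  let c : F ⟶ cokernel u := d ≫ cokernel.π u
  haveI := hG'.1
  have hc : (cokernel u).IsQuasicoherent := H10Coh.isQuasicoherent_cokernel u
  have hq : Coh.IsQCoh (kernel c) := @H10Coh.isQuasicoherent_kernel _ _ _ c hF.1 hc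
  let ψ : kernel c ⟶ G' := Abelian.monoLift u (kernel.ι c ≫ d) (by
    rw [Category.assoc]; exact kernel.condition c)
  have hψ : ψ ≫ u = kernel.ι c ≫ d := Abelian.monoLift_comp u _ _
  haveI := hiso
  haveI : IsIso (R.map (adj.unit.app G)) :=
    haveI : IsIso (R.map (adj.unit.app G) ≫ adj.counit.app (R.obj G)) := by
      erw [adj.left_triangle_components]; infer_instance
    IsIso.of_isIso_comp_right _ (adj.counit.app (R.obj G))
  haveI : IsIso (R.map u) := by rw [show R.map u = R.map i ≫ R.map (adj.unit.app G) from R.map_comp _ _]; infer_instance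
  have h0 : R.map c = 0 := by
    have hπ : R.map (cokernel.π u) = 0 := by
      rw [← cancel_epi (R.map u), ← R.map_comp, cokernel.condition, R.map_zero, comp_zero]
    rw [show R.map c = R.map d ≫ R.map (cokernel.π u) from R.map_comp _ _, hπ, comp_zero]
  haveI : IsIso (R.map (kernel.ι c)) := by
    have e : R.map (kernel.ι c) = (PreservesKernel.iso R c).hom ≫ kernel.ι (R.map c) := by
      simp [PreservesKernel.iso_hom]
    haveI : IsIso (kernel.ι (R.map c)) := by
      refine ⟨kernel.lift _ (𝟙 _) (by rw [h0, comp_zero]), ?_, kernel.lift_ι _ _ _⟩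
      rw [← cancel_mono (kernel.ι (R.map c)), Category.assoc, kernel.lift_ι, Category.comp_id, Category.id_comp]
    rw [e]; infer_instance
  refine ⟨kernel c, kernel.ι c, ψ ≫ i, inferInstance, H10Coh.isCoh_of_mono (kernel.ι c) hq hF, inferInstance, ?_⟩
  show R.map (ψ ≫ i) = R.map (kernel.ι c) ≫ φ
  have h1 := congrArg (fun f => R.map f ≫ adj.counit.app (R.obj G)) hψ
  simp only [u, d, Functor.map_comp, Category.assoc] at h1
  rw [adj.left_triangle_components, Category.comp_id] at h1
  rw [R.map_comp, h1]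
  congr 1
  erw [adj.counit_naturality φ]
  exact (Category.assoc _ _ _).symm.trans
    ((congrArg (· ≫ φ) (adj.left_triangle_components F)).trans (Category.id_comp φ))

end Groth.Agent.LeadHom
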